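import Groth.Agent.EtFound.EdgeVanish
import Groth.Agent.TriCat.AcyclicObj

/-! comparing derived functors composed with exact functors by dimension shifting -/

set_option autoImplicit false

universe w

open CategoryTheory CategoryTheory.Limits

namespace Groth.Agent.ShriekPush11

set_option backward.isDefEq.respectTransparency.types false

open Groth.Agent.TriCat

section

variable {A B : Type*} [Category A] [Category B] [Abelian A] [Abelian B] [EnoughInjectives A]
  (R : A ⥤ B) [R.Additive] {S : ShortComplex A}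

theorem nonempty_iso_succ (hS : S.ShortExact) (h2 : IsRightAcyclic R S.X₂) (q : ℕ) :
    Nonempty ((R.rightDerived (q + 1)).obj S.X₃ ≅ (R.rightDerived (q + 2)).obj S.X₁) := by
  let Δ := SESResLib.derivedLES R
  haveI : Mono (Δ.δ S hS (q + 1) (q + 2) rfl) :=
    (Δ.exact₃ S hS (q + 1) (q + 2) rfl).mono_g ((h2 (q + 1) q.succ_pos).eq_of_src _ _)
  haveI : Epi (Δ.δ S hS (q + 1) (q + 2) rfl) :=
    (Δ.exact₁ S hS (q + 1) (q + 2) rfl).epi_f ((h2 (q + 2) (q + 1).succ_pos).eq_of_tgt _ _)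
  haveI := isIso_of_mono_of_epi (Δ.δ S hS (q + 1) (q + 2) rfl)
  exact ⟨asIso (Δ.δ S hS (q + 1) (q + 2) rfl)⟩

theorem nonempty_iso_one [PreservesFiniteLimits R] (hS : S.ShortExact) (h2 : IsRightAcyclic R S.X₂) :
    Nonempty ((R.rightDerived 1).obj S.X₁ ≅ cokernel (R.map S.g)) := by
  let Δ := SESResLib.derivedLES R
  haveI : Epi (Δ.δ S hS 0 1 rfl) := (Δ.exact₁ S hS 0 1 rfl).epi_f ((h2 1 one_pos).eq_of_tgt _ _)
  exact ⟨((Δ.exact₃ S hS 0 1 rfl).gIsCokernel.coconePointUniqueUpToIso (cokernelIsCokernel _) :) ≪≫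
    cokernel.mapIso ((R.rightDerived 0).map S.g) (R.map S.g) (R.rightDerivedZeroIsoSelf.app _)
      (R.rightDerivedZeroIsoSelf.app _) (R.rightDerivedZeroIsoSelf.hom.naturality S.g)⟩

end

/-- dimension shifting along a class of objects with enough doubly acyclic objects -/
theorem nonempty_iso_derived {A A' B B' : Type*} [Category A] [Category A'] [Category B] [Category B']
    [Abelian A] [Abelian A'] [Abelian B] [Abelian B'] [EnoughInjectives A] [EnoughInjectives A']
    (P' : A' ⥤ B') (P : A ⥤ B) (G : B' ⥤ B) (G' : A' ⥤ A) [P'.Additive] [P.Additive]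
    [PreservesFiniteLimits P'] [PreservesFiniteLimits P] [PreservesFiniteLimits G'] [PreservesFiniteColimits G']
    [PreservesFiniteColimits G] [G.PreservesZeroMorphisms] [G'.PreservesZeroMorphisms]
    (E : P' ⋙ G ≅ G' ⋙ P) (K : A' → Prop)
    (hK : ∀ X : A', K X → ∃ S : ShortComplex A', S.ShortExact ∧ Nonempty (S.X₁ ≅ X) ∧ K S.X₃ ∧
      IsRightAcyclic P' S.X₂ ∧ IsRightAcyclic P (G'.obj S.X₂))
    (q : ℕ) (X : A') (hX : K X) :
    Nonempty (G.obj ((P'.rightDerived q).obj X) ≅ (P.rightDerived q).obj (G'.obj X)) := by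
  induction q generalizing X with
  | zero => exact ⟨G.mapIso (P'.rightDerivedZeroIsoSelf.app X) ≪≫ E.app X ≪≫ (P.rightDerivedZeroIsoSelf.app _).symm⟩
  | succ q ih =>
    obtain ⟨S, hS, ⟨e⟩, hK3, ha, ha'⟩ := hK X hX
    have hS' : (S.map G').ShortExact := hS.map_of_exact G'
    suffices h : Nonempty (G.obj ((P'.rightDerived (q + 1)).obj S.X₁) ≅ (P.rightDerived (q + 1)).obj (G'.obj S.X₁)) by
      obtain ⟨i⟩ := h
      exact ⟨G.mapIso ((P'.rightDerived (q + 1)).mapIso e.symm) ≪≫ i ≪≫ (P.rightDerived (q + 1)).mapIso (G'.mapIso e)⟩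
    cases q with
    | zero =>
      obtain ⟨i⟩ := nonempty_iso_one P' hS ha
      obtain ⟨j⟩ := nonempty_iso_one P hS' ha'
      exact ⟨G.mapIso i ≪≫ PreservesCokernel.iso G (P'.map S.g) ≪≫
        cokernel.mapIso (G.map (P'.map S.g)) (P.map (G'.map S.g)) (E.app _) (E.app _) (E.hom.naturality S.g) ≪≫ j.symm⟩
    | succ q =>
      obtain ⟨i⟩ := nonempty_iso_succ P' hS ha q
      obtain ⟨j⟩ := nonempty_iso_succ P hS' ha' q
      obtain ⟨k⟩ := ih S.X₃ hK3
      exact ⟨G.mapIso i.symm ≪≫ k ≪≫ j⟩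

end Groth.Agent.ShriekPush11
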