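import Groth.Agent.ShriekPush11.Decomp
import Groth.Agent.ShriekBC11.Main
import Groth.Agent.GabberAff13.Points
import Groth.Agent.SiteBase.EtExcision.ShriekStalk
import Groth.Agent.SiteBase.EtExcision.Coprod
import Groth.Agent.SiteBase.EtExcision.ExtZeroCmp
import Groth.Agent.S0171
import Groth.Agent.BCCrit13.BC
import Mathlib.AlgebraicGeometry.ZariskisMainTheorem

/-! acyclicity of direct images with proper support for proper morphisms -/

set_option autoImplicit false
set_option linter.style.haveILetI false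

universe u

open CategoryTheory CategoryTheory.Limits AlgebraicGeometry Opposite

namespace Groth.Agent.ShriekPush11

set_option backward.isDefEq.respectTransparency.types false

open EtExcision Groth.Agent.TriCat

/-- a coproduct of torsion groups is torsion -/
theorem exists_nsmul_sigma {ι : Type*} (A : ι → AddCommGrpCat.{u + 1}) [HasCoproduct A]
    (h : ∀ i (a : A i), ∃ m : ℕ, 0 < m ∧ m • a = 0) (t : (∐ A : AddCommGrpCat.{u + 1})) :
    ∃ m : ℕ, 0 < m ∧ m • t = 0 := by
  let π : (∐ A : AddCommGrpCat.{u + 1}) ⟶ AddCommGrpCat.of ((∐ A : AddCommGrpCat.{u + 1}) ⧸ AddCommGroup.torsion (∐ A : AddCommGrpCat.{u + 1})) :=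
    AddCommGrpCat.ofHom (QuotientAddGroup.mk' _)
  have hπ : π = 0 := Sigma.hom_ext _ _ fun i => by
    refine AddCommGrpCat.hom_ext (AddMonoidHom.ext fun a => ?_)
    obtain ⟨m, hm, hma⟩ := h i a
    refine (QuotientAddGroup.eq_zero_iff _).2 (isOfFinAddOrder_iff_nsmul_eq_zero.2 ⟨m, hm, ?_⟩)
    exact ((map_nsmul (Sigma.ι A i).hom m a).symm.trans ((congrArg (Sigma.ι A i).hom hma).trans (map_zero _)))
  have ht : t ∈ AddCommGroup.torsion (∐ A : AddCommGrpCat.{u + 1}) :=
    (QuotientAddGroup.eq_zero_iff t).1 (congrArg (fun φ => φ t) hπ)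
  exact isOfFinAddOrder_iff_nsmul_eq_zero.1 ht

theorem isTorsion_lowerShriek {X Y : Scheme.{u}} (f : X ⟶ Y) [IsSeparated f] [LocallyOfFiniteType f]
    [LocallyQuasiFinite f] {F : EtCoh.Ab X} (hF : EtCoh.IsTorsion F) :
    EtCoh.IsTorsion ((EtShriek.lowerShriek f).obj F) := by
  refine (BCCrit13.isTorsion_iff_stalks _).2 fun Ω _ _ ξ => ?_
  let K := AlgebraicClosure Ω
  let l : Spec (CommRingCat.of K) ⟶ Spec (CommRingCat.of Ω) := Spec.map (CommRingCat.ofHom (algebraMap Ω K))
  have e := (EtFound.stalkExtIso AddCommGrpCat.{u + 1} ξ l).app ((EtShriek.lowerShriek f).obj F) ≪≫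
    ((EtCoh.stalk (l ≫ ξ)).mapIso ((lowerShriekIso f).app F) ≪≫
      (cofanIsColimit f F).coconePointUniqueUpToIso (coproductIsCoproduct _))
  intro t
  obtain ⟨m, hm, h⟩ := exists_nsmul_sigma _
    (fun z a => (BCCrit13.isTorsion_iff_stalks F).1 hF K z.1 a) (e.hom t)
  refine ⟨m, hm, e.addCommGroupIsoToAddEquiv.injective ?_⟩
  rw [map_zero, map_nsmul]
  exact h

variable {X Y X' Y' : Scheme.{u}}

/-- the group of a one-point piece -/
theorem subsingleton_H_onePoint {Ω : Type u} [Field Ω] [IsSepClosed Ω] {V U : Scheme.{u}} (fU : V ⟶ U) [IsProper fU]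
    (a : U ⟶ Spec (CommRingCat.of Ω)) [LocallyOfFiniteType a] [QuasiCompact a] [DiscreteTopology U]
    (G : EtCoh.Ab V) (h : ∀ j, 0 < j → IsZero ((EtCoh.Rpush fU j).obj G)) (q : ℕ) (hq : 0 < q) :
    Subsingleton (EtCoh.H V G q) := by
  haveI : PreservesFiniteLimits (EtCoh.pull fU) := EtFound.pull_preservesFiniteLimits _
  have hb := BigSiteLib.hofPush_bijective fU G h q
  haveI := S0171.result U a ((EtCoh.push fU).obj G) (fun x _ => isClosed_discrete _) q hq
  exact hb.2.subsingleton

/-- direct images with proper support of `f'_*`-acyclic torsion sheaves are `f_*`-acyclic -/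
theorem isRightAcyclic_lowerShriek (f : X ⟶ Y) (g : Y' ⟶ Y) (f' : X' ⟶ Y') (g' : X' ⟶ X)
    (w : g' ≫ f = f' ≫ g) [IsProper f] [IsProper f'] [IsSeparated g] [LocallyOfFiniteType g] [LocallyQuasiFinite g]
    [IsSeparated g'] [LocallyOfFiniteType g'] [LocallyQuasiFinite g'] {T : EtCoh.Ab X'} (hT : EtCoh.IsTorsion T)
    (hac : IsRightAcyclic (EtCoh.push f') T) :
    IsRightAcyclic (EtCoh.push f) ((EtShriek.lowerShriek g').obj T) := by
  intro q hq
  refine (EtFound.isZero_iff_stalks _).2 fun Ω _ _ η => ?_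
  obtain ⟨e⟩ := GabberAff13.nonempty_stalk_Rpush_geometric f η _ (isTorsion_lowerShriek g' hT) q
  refine IsZero.of_iso ?_ e
  suffices h : Subsingleton (EtCoh.H (pullback f η) ((EtCoh.pull (pullback.fst f η)).obj ((EtShriek.lowerShriek g').obj T)) q) from
    @AddCommGrpCat.isZero_of_subsingleton _ h
  -- the fibres
  let p := pullback.fst f η
  let W : Scheme.{u} := pullback g η
  let wΩ : W ⟶ Spec (CommRingCat.of Ω) := pullback.snd g η
  let P : Scheme.{u} := pullback f' (pullback.fst g η)
  let r : P ⟶ X' := pullback.fst f' (pullback.fst g η)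
  let f'' : P ⟶ W := pullback.snd f' (pullback.fst g η)
  let g'' : P ⟶ pullback f η := pullback.lift (r ≫ g') (f'' ≫ wΩ) (by
    rw [Category.assoc, w, pullback.condition_assoc, Category.assoc, pullback.condition])
  have hg''1 : g'' ≫ p = r ≫ g' := pullback.lift_fst _ _ _
  have hg''2 : g'' ≫ pullback.snd f η = f'' ≫ wΩ := pullback.lift_snd _ _ _
  have H : IsPullback r g'' g' p := by
    have big : IsPullback r (g'' ≫ pullback.snd f η) (g' ≫ f) η := by
      rw [hg''2, w]
      exact (IsPullback.of_hasPullback f' (pullback.fst g η)).paste_vert (IsPullback.of_hasPullback g η)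
    exact IsPullback.of_bot big hg''1.symm (IsPullback.of_hasPullback f η)
  haveI : IsSeparated g'' := MorphismProperty.of_isPullback H ‹_›
  haveI : LocallyOfFiniteType g'' := MorphismProperty.of_isPullback H ‹_›
  haveI : LocallyQuasiFinite g'' := MorphismProperty.of_isPullback H ‹_›
  -- base change
  let G : EtCoh.Ab P := (EtCoh.pull r).obj T
  have hpd := ShriekBC11.bcGood g' H _ (ShriekBC11.pd_unit r T)
  haveI := ShriekBC11.isIso_of_pd hpd
  let eA : (EtCoh.pull p).obj ((EtShriek.lowerShriek g').obj T) ≅ (EtShriek.lowerShriek g'').obj G :=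
    (EtCoh.pull p).mapIso ((lowerShriekIso g').app T) ≪≫
      @asIso _ _ _ _ _ (ShriekBC11.isIso_of_pd hpd) ≪≫ ((lowerShriekIso g'').app G).symm
  -- the decomposition
  haveI : IsLocallyArtinian W := IsLocallyArtinian.of_locallyQuasiFinite wΩ
  let pt : W → W.Opens := fun x => ⟨{x}, isOpen_discrete _⟩
  let U : W → P.Opens := fun x => f'' ⁻¹ᵁ pt x
  obtain ⟨eG⟩ := nonempty_iso_sigma U (fun y => ⟨f''.base y, rfl, fun x hx => (Set.mem_singleton_iff.1 hx).symm⟩) G
  haveI := preservesCoproducts_lowerShriek g'' W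
  haveI : CompactSpace ↥(pullback f η) := QuasiCompact.compactSpace_of_compactSpace (pullback.snd f η)
  haveI : QuasiSeparatedSpace ↥(pullback f η) := quasiSeparatedSpace_of_quasiSeparated (pullback.snd f η)
  let piece : W → EtCoh.Ab P := fun x => (EtShriek.extZero (U x).ι).obj ((EtShriek.restrAlong (U x).ι).obj G)
  let eB : (EtShriek.lowerShriek g'').obj G ≅ ∐ fun x => (EtShriek.lowerShriek g'').obj (piece x) :=
    (EtShriek.lowerShriek g'').mapIso eG.symm ≪≫ PreservesCoproduct.iso (EtShriek.lowerShriek g'') piece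
  suffices h : ∀ x, Subsingleton (EtCoh.H (pullback f η) ((EtShriek.lowerShriek g'').obj (piece x)) q) by
    have hs := isZero_HF_sigma (pullback f η) q _ h
    exact ((CohCrit13.hmap_bijective_of_isIso (eA ≪≫ eB).hom q).1).subsingleton
  intro x
  let fU := f'' ∣_ pt x
  let j := (U x).ι
  let a := (pt x).ι ≫ wΩ
  haveI : DiscreteTopology (pt x).toScheme := inferInstanceAs (DiscreteTopology ↥(pt x))
  haveI : CompactSpace (pt x).toScheme := by
    exact isCompact_iff_compactSpace.1 (show IsCompact ({x} : Set W) from isCompact_singleton)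
  haveI : QuasiCompact a := (quasiCompact_iff_compactSpace a).2 inferInstance
  haveI : IsFinite a := IsFinite.of_locallyQuasiFinite a
  haveI : IsProper fU := IsZariskiLocalAtTarget.restrict (P := @IsProper) inferInstance _
  let ex := j ≫ g''
  have hex : ex ≫ pullback.snd f η = fU ≫ a := by
    rw [Category.assoc, hg''2, ← Category.assoc, ← Category.assoc fU, morphismRestrict_ι]
  haveI : IsProper (ex ≫ pullback.snd f η) := by rw [hex]; infer_instance
  haveI : IsProper ex := IsProper.of_comp ex (pullback.snd f η)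
  haveI : IsFinite ex := IsFinite.of_isProper_of_locallyQuasiFinite ex
  let G' := (EtShriek.restrAlong j).obj G
  let eP : (EtShriek.lowerShriek g'').obj (piece x) ≅ (EtCoh.push ex).obj G' :=
    (EtShriek.lowerShriek g'').mapIso ((extZeroShrIso j).app G') ≪≫
      ((lowerShriekCompIso j g'').app G').symm ≪≫ (lowerShriekPushIso ex).app G'
  suffices h : Subsingleton (EtCoh.H ↑(U x) G' q) by
    haveI : Subsingleton (EtCoh.H (pullback f η) ((EtCoh.push ex).obj G') q) := by
      haveI : PreservesFiniteLimits (EtCoh.pull ex) := EtFound.pull_preservesFiniteLimits _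
      refine (BigSiteLib.hofPush_bijective ex G' (fun k hk => ?_) q).1.subsingleton
      obtain ⟨m, rfl⟩ := Nat.exists_eq_succ_of_ne_zero hk.ne'
      have := EtFound.push_preservesFiniteLimits ex
      have := EtFound.push_preservesFiniteColimits ex
      exact LerayDegen.isZero_rightDerived_of_exact (EtCoh.push ex) _ m
    exact ((CohCrit13.hmap_bijective_of_isIso eP.hom q).1).subsingleton
  haveI : (EtCoh.pull j).Additive := BCCrit13.pull_additive j
  let eG' : G' ≅ (EtCoh.pull (j ≫ r)).obj T :=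
    (EtMVLib.restrIsoPull j).app G ≪≫ ((EtCore.pullComp j r).app T).symm
  suffices h : Subsingleton (EtCoh.H ↑(U x) ((EtCoh.pull (j ≫ r)).obj T) q) from
    ((CohCrit13.hmap_bijective_of_isIso eG'.hom q).1).subsingleton
  refine subsingleton_H_onePoint fU a _ (fun k hk => ?_) q hq
  have hsq : IsPullback (j ≫ r) fU f' ((pt x).ι ≫ pullback.fst g η) :=
    ((isPullback_morphismRestrict f'' (pt x)).flip).paste_horiz (IsPullback.of_hasPullback f' (pullback.fst g η))
  obtain ⟨ec⟩ := GabberAff13.cohCommutes_of_isProper f' fU (j ≫ r) ((pt x).ι ≫ pullback.fst g η) hsq T hT k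
  haveI := BCCrit13.pull_additive ((pt x).ι ≫ pullback.fst g η)
  exact ((EtCoh.pull _).map_isZero (hac k hk)).of_iso ec.symm

end Groth.Agent.ShriekPush11
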