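import Groth.Agent.EtFound.AbRecollement
import Groth.Agent.IndExt.Additive
import Groth.Agent.EtLC12.QcqsAcyclic

/-! clopen decompositions of sheaves and cohomology of coproducts -/

set_option autoImplicit false

universe u

open CategoryTheory CategoryTheory.Limits AlgebraicGeometry Opposite

namespace Groth.Agent.ShriekPush11

set_option backward.isDefEq.respectTransparency.types false

/-- a coproduct of objects killed by a coproduct preserving functor is killed by it -/
theorem isZero_obj_sigma {A B : Type*} [Category A] [Category B] [HasZeroMorphisms B] (G : A ⥤ B) {ι : Type*}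
    (f : ι → A) [HasCoproduct f] [PreservesColimit (Discrete.functor f) G] (h : ∀ i, IsZero (G.obj (f i))) :
    IsZero (G.obj (∐ f)) :=
  (IsZero.iff_id_eq_zero _).2 ((isColimitOfPreserves G (coproductIsCoproduct f)).hom_ext fun ⟨i⟩ => (h i).eq_of_src _ _)

/-- a morphism out of a coproduct with one nonzero summand, invertible on it -/
theorem isIso_map_desc {A B : Type*} [Category A] [Category B] [HasZeroMorphisms B] (G : A ⥤ B) {ι : Type*}
    (f : ι → A) [HasCoproduct f] [PreservesColimit (Discrete.functor f) G] {T : A} (c : ∀ i, f i ⟶ T) (i₀ : ι)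
    [IsIso (G.map (c i₀))] (h : ∀ i, i ≠ i₀ → IsZero (G.obj (f i))) : IsIso (G.map (Sigma.desc c)) := by
  refine ⟨⟨inv (G.map (c i₀)) ≫ G.map (Sigma.ι f i₀), ?_, ?_⟩⟩
  · refine (isColimitOfPreserves G (coproductIsCoproduct f)).hom_ext fun ⟨i⟩ => ?_
    by_cases hi : i = i₀
    · subst hi
      show G.map (Sigma.ι f i) ≫ _ = G.map (Sigma.ι f i) ≫ _
      rw [← Category.assoc, ← G.map_comp, Sigma.ι_desc, IsIso.hom_inv_id_assoc, Category.comp_id]
    · exact (h i hi).eq_of_src _ _
  · rw [Category.assoc, ← G.map_comp, Sigma.ι_desc, IsIso.inv_hom_id]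

variable {P : Scheme.{u}}

/-- a sheaf is the sum of its pieces on a partition into open subsets -/
theorem nonempty_iso_sigma {ι : Type u} (U : ι → P.Opens) (hU : ∀ x : P, ∃! i, x ∈ U i) (G : EtCoh.Ab P) :
    Nonempty ((∐ fun i => (EtShriek.extZero (U i).ι).obj ((EtShriek.restrAlong (U i).ι).obj G)) ≅ G) := by
  let c := fun i => (EtShriek.extZeroAdj (U i).ι).counit.app G
  suffices h : IsIso (Sigma.desc c) from ⟨@asIso _ _ _ _ _ h⟩
  refine (EtFound.isIso_iff_stalks _).2 fun Ω _ _ ξ => ?_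
  obtain ⟨i₀, hi₀, huniq⟩ := hU (ξ.base (default : Spec (CommRingCat.of Ω)))
  haveI : (EtCoh.stalk ξ).IsLeftAdjoint := (Scheme.pointSmallEtale ξ).skyscraperSheafAdjunction.isLeftAdjoint
  haveI : IsIso ((EtCoh.stalk ξ).map (c i₀)) :=
    EtFound.isIso_stalk_of_lift (U i₀).ι _ ξ (by rw [Scheme.Opens.range_ι]; exact hi₀) fun k _ _ z =>
      EtFound.isIso_counit_stalk (U i₀).ι z G
  exact isIso_map_desc (EtCoh.stalk ξ) _ c i₀ fun i hi =>
    EtFound.isZero_stalk_extZero (U i).ι ξ (by rw [Scheme.Opens.range_ι]; exact fun h => hi (huniq i h)) _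

/-- cohomology of a qcqs scheme commutes with coproducts -/
theorem isZero_HF_sigma (Z : Scheme.{u}) [CompactSpace Z] [QuasiSeparatedSpace Z] (q : ℕ) {ι : Type u}
    (f : ι → EtCoh.Ab Z) (h : ∀ i, Subsingleton (EtCoh.H Z (f i) q)) :
    Subsingleton (EtCoh.H Z (∐ f) q) := by
  haveI : PreservesFilteredColimitsOfSize.{u + 1, u + 1} (EtCoh.HF Z q) :=
    ⟨fun Λ _ _ => EtLC12.QcqsAcyclic.preservesColimitsOfShape_HF Z q Λ⟩
  haveI : HasCoproducts.{u + 1} (EtCoh.Ab Z) := fun _ => inferInstance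
  haveI : HasFilteredColimitsOfSize.{u + 1, u + 1} (EtCoh.Ab Z) := ⟨fun _ _ _ => inferInstance⟩
  haveI : (EtCoh.HF Z q).Additive :=
    ⟨fun {A B a b} => AddCommGrpCat.hom_ext (AddMonoidHom.ext fun x =>
      show x.comp (Abelian.Ext.mk₀ (a + b)) (add_zero q) = _ by rw [Abelian.Ext.mk₀_add, Abelian.Ext.comp_add]; rfl)⟩
  haveI := IndExt.preservesCoproducts_of_finite_of_filtered (EtCoh.HF Z q) (ULift.{u + 1} ι)
  haveI := preservesColimitsOfShape_of_equiv (Discrete.equivalence (Equiv.ulift.{u + 1, u} (α := ι))) (EtCoh.HF Z q)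
  have hz : IsZero ((EtCoh.HF Z q).obj (∐ f)) :=
    isZero_obj_sigma (EtCoh.HF Z q) f fun i => @AddCommGrpCat.isZero_of_subsingleton _ (h i)
  exact AddCommGrpCat.subsingleton_of_isZero hz

end Groth.Agent.ShriekPush11
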